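import Groth.Agent.FrobSmoothLib.Coords
import Mathlib.RingTheory.Flat.Localization
import Mathlib.RingTheory.Flat.EquationalCriterion
import Mathlib.RingTheory.Spectrum.Prime.FreeLocus
import Mathlib.RingTheory.Finiteness.ModuleFinitePresentation
import Mathlib.RingTheory.IntegralClosure.IsIntegralClosure.Basic

/-!
# The relative Frobenius of a smooth algebra is finite locally free
-/

universe u v w

open TensorProduct FrobAlg

namespace Groth.Agent.FrobSmoothLib

variable {p : ℕ} [hp : Fact p.Prime] {A : Type u} [CommRing A] [CharP A p]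

theorem relFrob_tmul' {B : Type v} [CommRing B] [Algebra A B] [CharP B p] (b : B) (a : Twist p A) :
    relFrob p A B (b ⊗ₜ[A] a) = b ^ p * algebraMap A B ((toTwist p A).symm a) := by
  change (toTarget p A B).symm ((Algebra.TensorProduct.lift (frobHom p A B) (inclHom p A B)
    (fun _ _ => Commute.all _ _)) (b ⊗ₜ[A] a)) = _
  rw [Algebra.TensorProduct.lift_tmul]
  rfl

theorem relFrob_map {B : Type v} [CommRing B] [Algebra A B] [CharP B p] {B' : Type w} [CommRing B']
    [Algebra A B'] [CharP B' p] (f : B →ₐ[A] B') (z : BaseChange p A B) :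
    relFrob p A B' (Algebra.TensorProduct.map f (AlgHom.id A (Twist p A)) z) = f (relFrob p A B z) := by
  induction z using TensorProduct.induction_on with
  | zero => simp
  | tmul b a =>
    rw [Algebra.TensorProduct.map_tmul, relFrob_tmul', relFrob_tmul', map_mul, map_pow, f.commutes]
    rfl
  | add x y hx hy => rw [map_add, map_add, hx, hy, map_add, map_add]

theorem flat_relFrob_of_algEquiv {B : Type v} [CommRing B] [Algebra A B] [CharP B p] {B' : Type w}
    [CommRing B'] [Algebra A B'] [CharP B' p] (e : B' ≃ₐ[A] B) (h : (relFrob p A B').Flat) :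
    (relFrob p A B).Flat := by
  let T := Algebra.TensorProduct.congr e (AlgEquiv.refl : Twist p A ≃ₐ[A] Twist p A)
  have : relFrob p A B = (e.toRingEquiv.toRingHom.comp (relFrob p A B')).comp T.symm.toRingEquiv.toRingHom :=
    RingHom.ext fun z => by
      obtain ⟨z, rfl⟩ := T.surjective z
      change _ = e (relFrob p A B' (T.symm (T z)))
      rw [AlgEquiv.symm_apply_apply]
      exact relFrob_map e.toAlgHom z
  rw [this]
  exact (RingHom.Flat.of_bijective T.symm.bijective).comp (h.comp (RingHom.Flat.of_bijective e.bijective))

variable {B : Type u} [CommRing B] [Algebra A B] [CharP B p]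

theorem finite_relFrob [Algebra.FiniteType A B] :
    letI := (relFrob p A B).toAlgebra
    Module.Finite (BaseChange p A B) B := by
  letI := (relFrob p A B).toAlgebra
  letI : Algebra (Twist p A) B := inferInstanceAs (Algebra A B)
  haveI : Algebra.FiniteType (Twist p A) B := ‹Algebra.FiniteType A B›
  letI algBC : Algebra (Twist p A) (BaseChange p A B) := Algebra.TensorProduct.rightAlgebra
  letI : SMul (Twist p A) (BaseChange p A B) := algBC.toSMul
  haveI : IsScalarTower (Twist p A) (BaseChange p A B) B := IsScalarTower.of_algebraMap_eq fun a => by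
    change (algebraMap A B) ((toTwist p A).symm a) = relFrob p A B (1 ⊗ₜ[A] a)
    rw [relFrob_tmul', one_pow, one_mul]
  haveI : Algebra.FiniteType (BaseChange p A B) B :=
    Algebra.FiniteType.of_restrictScalars_finiteType (Twist p A) _ _
  haveI : Algebra.IsIntegral (BaseChange p A B) B := ⟨PerfLib.relFrob_isIntegral⟩
  exact Algebra.IsIntegral.finite

theorem finitePresentation_relFrob [Algebra.FinitePresentation A B] :
    letI := (relFrob p A B).toAlgebra
    Module.FinitePresentation (BaseChange p A B) B := by
  letI := (relFrob p A B).toAlgebra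
  letI : Algebra (Twist p A) B := inferInstanceAs (Algebra A B)
  haveI : Algebra.FinitePresentation (Twist p A) B := ‹Algebra.FinitePresentation A B›
  letI algBC : Algebra (Twist p A) (BaseChange p A B) := Algebra.TensorProduct.rightAlgebra
  letI : SMul (Twist p A) (BaseChange p A B) := algBC.toSMul
  haveI : IsScalarTower (Twist p A) (BaseChange p A B) B := IsScalarTower.of_algebraMap_eq fun a => by
    change (algebraMap A B) ((toTwist p A).symm a) = relFrob p A B (1 ⊗ₜ[A] a)
    rw [relFrob_tmul', one_pow, one_mul]
  haveI : Algebra.FiniteType A B := inferInstance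
  haveI : Algebra.FiniteType (Twist p A) (BaseChange p A B) :=
    Algebra.FiniteType.equiv (inferInstanceAs (Algebra.FiniteType (Twist p A) ((Twist p A) ⊗[A] B)))
      { (Algebra.TensorProduct.comm A (Twist p A) B).toRingEquiv with commutes' := fun a => rfl }
  haveI : Algebra.FinitePresentation (BaseChange p A B) B :=
    Algebra.FinitePresentation.of_restrict_scalars_finitePresentation (Twist p A) _ _
  haveI := finite_relFrob (p := p) (A := A) (B := B)
  exact Module.FinitePresentation.of_finite_of_finitePresentation _ _

theorem exists_relativeDimension {C : Type u} [CommRing C] [Algebra A C] [Nontrivial C]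
    [Algebra.IsStandardSmooth A C] : ∃ n, Algebra.IsStandardSmoothOfRelativeDimension n A C := by
  obtain ⟨ι, σ, _, _, ⟨P⟩⟩ := ‹Algebra.IsStandardSmooth A C›
  exact ⟨P.dimension, _, _, _, inferInstance, P, rfl⟩

section Local

variable {n : ℕ} (b : B)

include A hp in
theorem charP_away [Nontrivial (Localization.Away b)] : CharP (Localization.Away b) p :=
  (CharP.charP_iff_prime_eq_zero hp.out).2 (PerfLib.cast_eq_zero (A := A))

variable [CharP (Localization.Away b) p]

/-- The localisation of the twist. -/
@[reducible]
noncomputable def awayAlgebra : Algebra (BaseChange p A B) (BaseChange p A (Localization.Away b)) :=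
  (Algebra.TensorProduct.map (IsScalarTower.toAlgHom A B (Localization.Away b))
    (AlgHom.id A (Twist p A))).toAlgebra

theorem isLocalization_away :
    letI := awayAlgebra (p := p) (A := A) b
    IsLocalization.Away (b ⊗ₜ[A] (1 : Twist p A)) (BaseChange p A (Localization.Away b)) := by
  letI := awayAlgebra (p := p) (A := A) b
  haveI : IsScalarTower B (BaseChange p A B) (BaseChange p A (Localization.Away b)) :=
    IsScalarTower.of_algebraMap_eq fun x => by
      simp [RingHom.algebraMap_toAlgebra, Algebra.TensorProduct.algebraMap_apply]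
  have h := IsLocalization.tensorProduct_tensorProduct A (Twist p A) (Submonoid.powers b)
    (Localization.Away b) (by ext x; simp [RingHom.algebraMap_toAlgebra])
  rw [Algebra.algebraMapSubmonoid_powers] at h
  exact h

omit [CharP (Localization.Away b) p] in
theorem isLocalizedModule_away :
    letI := (relFrob p A B).toAlgebra
    IsLocalizedModule (Submonoid.powers (b ⊗ₜ[A] (1 : Twist p A)))
      (IsScalarTower.toAlgHom (BaseChange p A B) B (Localization.Away b)).toLinearMap := by
  letI := (relFrob p A B).toAlgebra
  rw [isLocalizedModule_iff_isLocalization, Algebra.algebraMapSubmonoid_powers,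
    show algebraMap (BaseChange p A B) B (b ⊗ₜ[A] (1 : Twist p A)) = b ^ p by
      rw [RingHom.algebraMap_toAlgebra, relFrob_tmul', map_one, map_one, mul_one]]
  have hb := IsLocalization.Away.algebraMap_isUnit (S := Localization.Away b) b
  refine (isLocalization_iff _ _).2 ⟨?_, fun z => ?_, fun {x y} h => ?_⟩
  · rintro ⟨_, k, rfl⟩
    simpa using (hb.pow p).pow k
  · obtain ⟨k, a, ha⟩ := IsLocalization.Away.surj b z
    refine ⟨(a * b ^ ((p - 1) * k), ⟨(b ^ p) ^ k, k, rfl⟩), ?_⟩
    rw [map_mul, ← ha, map_pow, mul_assoc, ← map_pow, ← map_pow, ← map_mul, ← pow_add, ← pow_mul]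
    congr 3
    obtain ⟨q, rfl⟩ := Nat.exists_eq_add_of_le hp.out.one_le
    rw [Nat.add_sub_cancel_left]; ring
  · obtain ⟨⟨_, k, rfl⟩, hk⟩ := (IsLocalization.eq_iff_exists (Submonoid.powers b) (Localization.Away b)).1 h
    refine ⟨⟨(b ^ p) ^ k, k, rfl⟩, ?_⟩
    obtain ⟨q, rfl⟩ := Nat.exists_eq_add_of_le hp.out.one_le
    simp only at hk ⊢
    rw [← pow_mul, show (1 + q) * k = q * k + k by ring, pow_add, mul_assoc, mul_assoc, hk]

end Local

/-- The relative Frobenius of a smooth algebra is flat. -/
theorem flat_relFrob [Algebra.Smooth A B] : (relFrob p A B).Flat := by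
  letI := (relFrob p A B).toAlgebra
  obtain ⟨s, hs, hstd⟩ := Algebra.Smooth.exists_span_eq_top_isStandardSmooth A B
  refine Module.flat_of_isLocalized_span (R := BaseChange p A B) (S := B) (M := B) s hs
    (fun r => Localization.Away r.1) (fun r => Algebra.linearMap B (Localization.Away r.1)) fun r => ?_
  rcases subsingleton_or_nontrivial (Localization.Away r.1) with h | h
  · haveI : Module.Free (BaseChange p A B) (Localization.Away r.1) := Module.Free.of_subsingleton _ _
    infer_instance
  · haveI := charP_away (p := p) (A := A) r.1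
    haveI := hstd r.1 r.2
    obtain ⟨n, hn⟩ := exists_relativeDimension (A := A) (C := Localization.Away r.1)
    obtain ⟨bas⟩ := exists_basis (p := p) (n := n) (A := A) (C := Localization.Away r.1)
    have h1 : (Algebra.TensorProduct.map (IsScalarTower.toAlgHom A B (Localization.Away r.1))
        (AlgHom.id A (Twist p A))).toRingHom.Flat := by
      letI := awayAlgebra (p := p) (A := A) r.1
      haveI := isLocalization_away (p := p) (A := A) r.1
      exact IsLocalization.flat (BaseChange p A (Localization.Away r.1)) (Submonoid.powers (r.1 ⊗ₜ[A] (1 : Twist p A)))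
    have h2 : (relFrob p A (Localization.Away r.1)).Flat := by
      letI := (relFrob p A (Localization.Away r.1)).toAlgebra
      haveI := Module.Free.of_basis bas
      exact (inferInstance : Module.Flat (BaseChange p A (Localization.Away r.1)) (Localization.Away r.1))
    rw [← RingHom.flat_algebraMap_iff]
    rw [show algebraMap (BaseChange p A B) (Localization.Away r.1) = (relFrob p A (Localization.Away r.1)).comp
        (Algebra.TensorProduct.map (IsScalarTower.toAlgHom A B (Localization.Away r.1))
          (AlgHom.id A (Twist p A))).toRingHom from RingHom.ext fun z => by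
      rw [IsScalarTower.algebraMap_apply (BaseChange p A B) B (Localization.Away r.1), RingHom.algebraMap_toAlgebra]
      exact (relFrob_map (IsScalarTower.toAlgHom A B (Localization.Away r.1)) z).symm]
    exact h1.comp h2

theorem projective_relFrob [Algebra.Smooth A B] :
    letI := (relFrob p A B).toAlgebra
    Module.Finite (BaseChange p A B) B ∧ Module.Projective (BaseChange p A B) B := by
  letI := (relFrob p A B).toAlgebra
  haveI : Module.Flat (BaseChange p A B) B := flat_relFrob (p := p) (A := A) (B := B)
  haveI := finitePresentation_relFrob (p := p) (A := A) (B := B)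
  exact ⟨inferInstance, Module.Flat.projective_of_finitePresentation⟩

theorem rankAtStalk_eq_card {R Rb M Mb : Type u} [CommRing R] [CommRing Rb] [Algebra R Rb]
    [AddCommGroup M] [Module R M] [AddCommGroup Mb] [Module R Mb] [Module Rb Mb]
    (hst : ∀ (z : R) (x : Mb), algebraMap R Rb z • x = z • x) (S : Submonoid R) [IsLocalization S Rb]
    [Module.Flat R M] [Module.Finite R M] (f : M →ₗ[R] Mb) [IsLocalizedModule S f] {κ : Type*} [Fintype κ] (bas : Module.Basis κ Rb Mb)
    (q : PrimeSpectrum Rb) :
    Module.rankAtStalk M (q.comap (algebraMap R Rb)) = Fintype.card κ := by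
  haveI : IsScalarTower R Rb Mb := IsScalarTower.of_algebraMap_smul hst
  haveI := Module.Free.of_basis bas
  haveI : Nontrivial Rb := q.nontrivial
  rw [← Module.rankAtStalk_isBaseChange (IsLocalizedModule.isBaseChange S Rb f) q,
    Module.rankAtStalk_eq_finrank_of_free, Pi.natCast_apply, Nat.cast_id, Module.finrank_eq_card_basis bas]

theorem rankAtStalk_relFrob [Algebra.Smooth A B] (r : ℕ)
    (hr : ∀ q : PrimeSpectrum B, Module.rankAtStalk (R := B) (KaehlerDifferential A B) q = r)
    (q : PrimeSpectrum (BaseChange p A B)) :
    letI := (relFrob p A B).toAlgebra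
    Module.rankAtStalk (R := BaseChange p A B) B q = p ^ r := by
  letI := (relFrob p A B).toAlgebra
  haveI : Algebra.IsIntegral (BaseChange p A B) B := ⟨PerfLib.relFrob_isIntegral⟩
  have hle : (⊥ : Ideal B).comap (algebraMap (BaseChange p A B) B) ≤ q.asIdeal := fun z hz => by
    refine q.isPrime.mem_of_pow_mem p ?_
    rw [PerfLib.relFrob_eq_zero_pow (p := p) (A := A) (B := B) (z := z) hz]
    exact zero_mem _
  obtain ⟨Q, -, hQ, hQq⟩ := Ideal.exists_ideal_over_prime_of_isIntegral q.asIdeal (⊥ : Ideal B) hle
  haveI := hQ
  obtain ⟨b, hbQ, hstd⟩ := Algebra.IsSmoothAt.exists_notMem_isStandardSmooth A Q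
  haveI := hstd
  have hdisj : Disjoint (Submonoid.powers b : Set B) Q := by
    rwa [Ideal.disjoint_powers_iff_notMem_of_isPrime]
  haveI := IsLocalization.isPrime_of_isPrime_disjoint (Submonoid.powers b) (Localization.Away b) Q hQ hdisj
  let Q' : PrimeSpectrum (Localization.Away b) := ⟨Q.map (algebraMap B (Localization.Away b)), inferInstance⟩
  haveI : Nontrivial (Localization.Away b) := Q'.nontrivial
  haveI := charP_away (p := p) (A := A) b
  obtain ⟨n, hn⟩ := exists_relativeDimension (A := A) (C := Localization.Away b)
  have hnr : n = r := by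
    have h1 := Module.rankAtStalk_isBaseChange (IsLocalizedModule.isBaseChange (Submonoid.powers b)
      (Localization.Away b) (KaehlerDifferential.map A A B (Localization.Away b))) Q'
    rw [hr, Module.rankAtStalk_eq_finrank_of_free, Pi.natCast_apply, Nat.cast_id] at h1
    have h2 := congrArg Cardinal.toNat (Algebra.IsStandardSmoothOfRelativeDimension.rank_kaehlerDifferential
      (R := A) (S := Localization.Away b) n)
    rw [Cardinal.toNat_natCast] at h2
    rw [← h1, ← h2]
    rfl
  subst hnr
  obtain ⟨bas⟩ := exists_basis (p := p) (n := n) (A := A) (C := Localization.Away b)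
  letI := awayAlgebra (p := p) (A := A) b
  letI := (relFrob p A (Localization.Away b)).toAlgebra
  haveI := isLocalization_away (p := p) (A := A) b
  haveI := isLocalizedModule_away (p := p) (A := A) b
  have hcomm : ∀ z, relFrob p A (Localization.Away b) (algebraMap (BaseChange p A B) (BaseChange p A (Localization.Away b)) z) =
      algebraMap B (Localization.Away b) (relFrob p A B z) := fun z =>
    relFrob_map (IsScalarTower.toAlgHom A B (Localization.Away b)) z
  have hq : (Q'.comap (relFrob p A (Localization.Away b))).comap
      (algebraMap (BaseChange p A B) (BaseChange p A (Localization.Away b))) = q := by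
    refine PrimeSpectrum.ext (Ideal.ext fun z => ?_)
    show relFrob p A (Localization.Away b) _ ∈ Q.map (algebraMap B (Localization.Away b)) ↔ z ∈ q.asIdeal
    rw [hcomm, ← Ideal.mem_comap, ← Ideal.under_def, IsLocalization.comap_map_of_isPrime_disjoint (Submonoid.powers b) _ hQ hdisj, ← hQq]
    rfl
  obtain ⟨hfin, hproj⟩ := projective_relFrob (p := p) (A := A) (B := B)
  haveI := hfin
  haveI := hproj
  rw [← hq, rankAtStalk_eq_card (M := B) (fun z x => ?_) (Submonoid.powers (b ⊗ₜ[A] (1 : Twist p A)))
    (IsScalarTower.toAlgHom (BaseChange p A B) B (Localization.Away b)).toLinearMap bas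
    (Q'.comap (relFrob p A (Localization.Away b)))]
  · simp
  · rw [Algebra.smul_def, RingHom.algebraMap_toAlgebra (relFrob p A (Localization.Away b)), hcomm,
      ← Algebra.smul_def, ← RingHom.algebraMap_toAlgebra (relFrob p A B), algebraMap_smul]

theorem flat_relFrob_any {B : Type v} [CommRing B] [Algebra A B] [CharP B p] [Algebra.Smooth A B] :
    (relFrob p A B).Flat := by
  obtain ⟨m, f, hf, -⟩ := Algebra.FinitePresentation.out (R := A) (A := B)
  let e := Ideal.quotientKerAlgEquivOfSurjective hf
  haveI : CharP (MvPolynomial (Fin m) A ⧸ RingHom.ker f) p :=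
    charP_of_injective_ringHom (f := e.symm.toRingEquiv.toRingHom) e.symm.injective p
  haveI : Algebra.Smooth A (MvPolynomial (Fin m) A ⧸ RingHom.ker f) := Algebra.Smooth.of_equiv e.symm
  exact flat_relFrob_of_algEquiv e (flat_relFrob (B := MvPolynomial (Fin m) A ⧸ RingHom.ker f))

end Groth.Agent.FrobSmoothLib
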