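import Groth.Agent.S3176
import Mathlib.RingTheory.RingHom.StandardSmooth
import Mathlib.RingTheory.Smooth.StandardSmoothOfFree

/-!
# The relative Frobenius of an algebra étale over a polynomial ring
-/

universe u

open TensorProduct FrobAlg

namespace Groth.Agent.FrobSmoothLib

variable {p : ℕ} [hp : Fact p.Prime] {A : Type u} [CommRing A] [CharP A p] {n : ℕ}

/-- The remainders of exponents modulo `p`. -/
def remExp (p : ℕ) [hp : Fact p.Prime] (d : Fin n →₀ ℕ) : Fin n → Fin p := fun i =>
  ⟨d i % p, Nat.mod_lt _ hp.out.pos⟩

/-- The quotients of exponents by `p`. -/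
noncomputable def quotExp (p : ℕ) (d : Fin n →₀ ℕ) : Fin n →₀ ℕ :=
  Finsupp.equivFunOnFinite.symm fun i => d i / p

/-- Remainders as exponents. -/
noncomputable def ofRem {p : ℕ} (r : Fin n → Fin p) : Fin n →₀ ℕ :=
  Finsupp.equivFunOnFinite.symm fun i => (r i : ℕ)

theorem quotExp_add (d e : Fin n →₀ ℕ) : quotExp p (p • e + d) = e + quotExp p d := by
  ext i
  simp [quotExp, Nat.mul_add_div hp.out.pos]

theorem remExp_add (d e : Fin n →₀ ℕ) : remExp p (p • e + d) = remExp p d := by
  funext i
  simp [remExp, Fin.ext_iff]

theorem quotExp_ofRem (r : Fin n → Fin p) : quotExp p (ofRem r) = 0 := by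
  ext i
  simp [quotExp, ofRem, Nat.div_eq_of_lt (r i).2]

theorem remExp_ofRem (r : Fin n → Fin p) : remExp p (ofRem r) = r := by
  funext i
  simp [remExp, ofRem, Fin.ext_iff, Nat.mod_eq_of_lt (r i).2]

theorem smul_quotExp_add (d : Fin n →₀ ℕ) : p • quotExp p d + ofRem (remExp p d) = d := by
  ext i
  simp [quotExp, ofRem, remExp, Nat.div_add_mod]

variable (A) in
/-- The twisted scalar in the twist of an algebra. -/
noncomputable def scal (p : ℕ) [Fact p.Prime] [CharP A p] (C : Type*) [CommRing C] [Algebra A C]
    (c : C) : A →+ BaseChange p A C where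
  toFun a := c ⊗ₜ[A] toTwist p A a
  map_zero' := by rw [map_zero, tmul_zero]
  map_add' a b := by rw [map_add, tmul_add]

variable (p A n) in
/-- Coordinates of a polynomial over its Frobenius twist. -/
noncomputable def coords :
    MvPolynomial (Fin n) A →+ ((Fin n → Fin p) → BaseChange p A (MvPolynomial (Fin n) A)) :=
  (Finsupp.liftAddHom fun d => (AddMonoidHom.single (fun _ => BaseChange p A (MvPolynomial (Fin n) A))
      (remExp p d)).comp (scal A p (MvPolynomial (Fin n) A) (MvPolynomial.monomial (quotExp p d) 1))).comp
    (MvPolynomial.basisMonomials (Fin n) A).repr.toLinearMap.toAddMonoidHom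

theorem coords_monomial (d : Fin n →₀ ℕ) (a : A) :
    coords p A n (MvPolynomial.monomial d a) =
      Pi.single (remExp p d) (MvPolynomial.monomial (quotExp p d) (1 : A) ⊗ₜ[A] toTwist p A a) := by
  have h : (MvPolynomial.basisMonomials (Fin n) A).repr (MvPolynomial.monomial d a) = Finsupp.single d a := by
    rw [show MvPolynomial.monomial d a = a • MvPolynomial.monomial d (1 : A) by
      rw [MvPolynomial.smul_monomial, smul_eq_mul, mul_one], map_smul,
      show MvPolynomial.monomial d (1 : A) = MvPolynomial.basisMonomials (Fin n) A d by simp,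
      Module.Basis.repr_self, Finsupp.smul_single, smul_eq_mul, mul_one]
  change Finsupp.liftAddHom _ ((MvPolynomial.basisMonomials (Fin n) A).repr _) = _
  rw [h, Finsupp.liftAddHom_apply_single]
  rfl

theorem coords_pow_mul (y x : MvPolynomial (Fin n) A) :
    coords p A n (y ^ p * x) = fun r => (y ⊗ₜ[A] (1 : Twist p A)) * coords p A n x r := by
  induction y using MvPolynomial.induction_on' with
  | monomial e c =>
    induction x using MvPolynomial.induction_on' with
    | monomial d a =>
      rw [MvPolynomial.monomial_pow, MvPolynomial.monomial_mul, coords_monomial, coords_monomial,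
        quotExp_add, remExp_add]
      funext r
      rcases eq_or_ne r (remExp p d) with rfl | hr
      · simp only [Pi.single_eq_same, Algebra.TensorProduct.tmul_mul_tmul, one_mul,
          MvPolynomial.monomial_mul, mul_one]
        rw [show MvPolynomial.monomial (e + quotExp p d) c = c • MvPolynomial.monomial (e + quotExp p d) (1 : A) by
          rw [MvPolynomial.smul_monomial, smul_eq_mul, mul_one], TensorProduct.smul_tmul]
        rw [Algebra.smul_def, algebraMap_twist, ← map_mul]
      · simp [Pi.single_eq_of_ne hr]
    | add x x' h h' =>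
      rw [mul_add, map_add, h, h', map_add]
      funext r
      simp [mul_add]
  | add y y' h h' =>
    rw [add_pow_char, add_mul, map_add, h, h']
    funext r
    simp [add_tmul, add_mul]

variable {C : Type u} [CommRing C] [CharP C p] [Algebra A C]

omit [CharP C p] in
theorem map_monomial_smul (g : MvPolynomial (Fin n) A →ₐ[A] C) (d : Fin n →₀ ℕ) (a : A) :
    g (MvPolynomial.monomial d a) = algebraMap A C a * g (MvPolynomial.monomial d 1) := by
  rw [show MvPolynomial.monomial d a = a • MvPolynomial.monomial d (1 : A) by
    rw [MvPolynomial.smul_monomial, smul_eq_mul, mul_one], map_smul, Algebra.smul_def]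

theorem bijective_linearCombination (g : MvPolynomial (Fin n) A →ₐ[A] C) (hg : g.toRingHom.Etale) :
    letI := (relFrob p A C).toAlgebra
    Function.Bijective (Fintype.linearCombination (BaseChange p A C)
      (fun r : Fin n → Fin p => g (MvPolynomial.monomial (ofRem r) 1))) := by
  letI := (relFrob p A C).toAlgebra
  algebraize [g.toRingHom]
  have : IsScalarTower A (MvPolynomial (Fin n) A) C := IsScalarTower.of_algebraMap_eq fun a => (g.commutes a).symm
  have he := (Groth.Agent.S3176.result p (MvPolynomial (Fin n) A) C).mp inferInstance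
  set P := MvPolynomial (Fin n) A
  set Ψ := Fintype.linearCombination (BaseChange p A C)
      (fun r : Fin n → Fin p => g (MvPolynomial.monomial (ofRem r) 1))
  have hΨ : ∀ v, Ψ v = ∑ r, relFrob p A C (v r) * g (MvPolynomial.monomial (ofRem r) 1) := fun v => by
    simp only [Ψ, Fintype.linearCombination_apply, Algebra.smul_def, RingHom.algebraMap_toAlgebra]
  have hsingle : ∀ r (c : C) (a : A), Ψ (Pi.single r (c ⊗ₜ[A] toTwist p A a)) =
      c ^ p * algebraMap A C a * g (MvPolynomial.monomial (ofRem r) 1) := fun r c a => by
    rw [hΨ, Finset.sum_eq_single r (fun b _ hb => by simp [Pi.single_eq_of_ne hb]) (by simp),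
      Pi.single_eq_same, PerfLib.relFrob_tmul, RingEquiv.symm_apply_apply]
  let m : BaseChange p A P →ₐ[A] BaseChange p A C := Algebra.TensorProduct.map g (AlgHom.id A (Twist p A))
  let Φ : C →ₗ[P] Twist p P →ₗ[P] ((Fin n → Fin p) → BaseChange p A C) :=
    LinearMap.mk₂ P (fun c x r => (c ⊗ₜ[A] (1 : Twist p A)) * m (coords p A n ((toTwist p P).symm x) r))
      (fun c c' x => by funext r; simp [add_tmul, add_mul])
      (fun y c x => by
        funext r
        rw [Pi.smul_apply, ← smul_mul_assoc, TensorProduct.smul_tmul'])
      (fun c x x' => by funext r; simp [map_add, mul_add])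
      (fun y c x => by
        funext r
        have h : (toTwist p P).symm (y • x) = y ^ p * (toTwist p P).symm x := by
          rw [Algebra.smul_def, algebraMap_twist, map_mul, RingEquiv.symm_apply_apply]
        rw [h, coords_pow_mul, Pi.smul_apply, map_mul, ← smul_mul_assoc, ← mul_assoc,
          TensorProduct.smul_tmul', Algebra.TensorProduct.map_tmul, Algebra.TensorProduct.tmul_mul_tmul,
          map_one, mul_one, mul_comm c]
        rfl)
  refine ⟨fun v w h => ?_, fun c => ?_⟩
  · let e := RingEquiv.ofBijective _ he
    have key : ∀ v, TensorProduct.lift Φ (e.symm (Ψ v)) = v := by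
      intro v
      induction v using Pi.single_induction with
      | zero => simp
      | add v w hv hw => simp [map_add, hv, hw]
      | single r z =>
        induction z using TensorProduct.induction_on with
        | zero => simp
        | add z z' hz hz' => rw [Pi.single_add, map_add, map_add, map_add, hz, hz']
        | tmul c a =>
          obtain ⟨a, rfl⟩ := (toTwist p A).surjective a
          have hc : Ψ (Pi.single r (c ⊗ₜ[A] toTwist p A a)) =
              e (c ⊗ₜ[P] toTwist p P (MvPolynomial.monomial (ofRem r) a)) := by
            rw [hsingle, mul_assoc, ← map_monomial_smul]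
            exact ((PerfLib.relFrob_tmul (A := P) (B := C) c _).trans (by rw [RingEquiv.symm_apply_apply]; rfl)).symm
          rw [hc, RingEquiv.symm_apply_apply, TensorProduct.lift.tmul]
          funext s
          change (c ⊗ₜ[A] (1 : Twist p A)) * m (coords p A n ((toTwist p P).symm _) s) = _
          rw [RingEquiv.symm_apply_apply, coords_monomial, quotExp_ofRem, remExp_ofRem]
          rcases eq_or_ne s r with rfl | hs
          · rw [Pi.single_eq_same, Pi.single_eq_same, Algebra.TensorProduct.map_tmul,
              Algebra.TensorProduct.tmul_mul_tmul, MvPolynomial.monomial_zero', map_one, map_one, mul_one,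
              one_mul]
            rfl
          · rw [Pi.single_eq_of_ne hs, Pi.single_eq_of_ne hs, map_zero, mul_zero]
    rw [← key v, h, key]
  · obtain ⟨z, rfl⟩ := he.2 c
    induction z using TensorProduct.induction_on with
    | zero => exact ⟨0, by simp⟩
    | add z z' hz hz' =>
      obtain ⟨v, hv⟩ := hz
      obtain ⟨w, hw⟩ := hz'
      exact ⟨v + w, by rw [map_add, hv, hw, map_add]⟩
    | tmul c x =>
      obtain ⟨x, rfl⟩ := (toTwist p P).surjective x
      rw [PerfLib.relFrob_tmul, RingEquiv.symm_apply_apply]
      induction x using MvPolynomial.induction_on' with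
      | monomial d a =>
        refine ⟨Pi.single (remExp p d) ((c * g (MvPolynomial.monomial (quotExp p d) 1)) ⊗ₜ[A] toTwist p A a), ?_⟩
        rw [hsingle]
        change _ = c ^ p * g (MvPolynomial.monomial d a)
        rw [map_monomial_smul g d a, mul_pow, ← map_pow, MvPolynomial.monomial_pow, one_pow]
        conv_rhs => rw [← smul_quotExp_add (p := p) d,
          ← mul_one (1 : A), ← MvPolynomial.monomial_mul, map_mul]
        ring
      | add x y hx hy =>
        obtain ⟨v, hv⟩ := hx
        obtain ⟨w, hw⟩ := hy
        exact ⟨v + w, by rw [map_add, hv, hw, map_add, mul_add]⟩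

/-- A standard smooth algebra is free of rank `p ^ n` over its Frobenius twist. -/
theorem exists_basis [Algebra.IsStandardSmoothOfRelativeDimension n A C] :
    letI := (relFrob p A C).toAlgebra
    Nonempty (Module.Basis (Fin n → Fin p) (BaseChange p A C) C) := by
  obtain ⟨g, hg⟩ := Algebra.IsStandardSmoothOfRelativeDimension.exists_etale_mvPolynomial (n := n) A C
  letI := (relFrob p A C).toAlgebra
  exact ⟨.ofEquivFun (LinearEquiv.ofBijective _ (bijective_linearCombination g hg)).symm⟩

end Groth.Agent.FrobSmoothLib
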